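import Cfsg.Agent.Lib.SimplyLacedLift.Data
import Cfsg.Agent.Lib.Chev.Data.E6
import Cfsg.Agent.Lib.Chev.Data.E7
import Cfsg.Agent.Lib.Chev.Data.E8

/-! The checks for `E₆`, `E₇`, `E₈`, by ranges of roots. -/

set_option autoImplicit false
set_option maxRecDepth 10000
-- one kernel evaluation after the other, so that their memory does not add up
set_option Elab.async false

namespace Cfsg.Agent.Lib.SimplyLacedLift

open Cfsg.Agent.Lib.Chev

theorem laceE6_0 : laceFrom E6.fast hintsE6 0 8 = true := by decide +kernel
theorem laceE6_1 : laceFrom E6.fast hintsE6 8 8 = true := by decide +kernel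
theorem laceE6_2 : laceFrom E6.fast hintsE6 16 8 = true := by decide +kernel
theorem laceE6_3 : laceFrom E6.fast hintsE6 24 8 = true := by decide +kernel
theorem laceE6_4 : laceFrom E6.fast hintsE6 32 8 = true := by decide +kernel
theorem laceE6_5 : laceFrom E6.fast hintsE6 40 8 = true := by decide +kernel
theorem laceE6_6 : laceFrom E6.fast hintsE6 48 8 = true := by decide +kernel
theorem laceE6_7 : laceFrom E6.fast hintsE6 56 8 = true := by decide +kernel
theorem laceE6_8 : laceFrom E6.fast hintsE6 64 8 = true := by decide +kernel

theorem lace_E6 : laceCheck E6.fast hintsE6 = true := by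
  refine allBelow_iff.2 fun r hr => ?_
  replace hr : r < 72 := hr
  by_cases h0 : r < 8
  · exact laceFrom_get laceE6_0 (by omega) (by omega)
  by_cases h1 : r < 16
  · exact laceFrom_get laceE6_1 (by omega) (by omega)
  by_cases h2 : r < 24
  · exact laceFrom_get laceE6_2 (by omega) (by omega)
  by_cases h3 : r < 32
  · exact laceFrom_get laceE6_3 (by omega) (by omega)
  by_cases h4 : r < 40
  · exact laceFrom_get laceE6_4 (by omega) (by omega)
  by_cases h5 : r < 48
  · exact laceFrom_get laceE6_5 (by omega) (by omega)
  by_cases h6 : r < 56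
  · exact laceFrom_get laceE6_6 (by omega) (by omega)
  by_cases h7 : r < 64
  · exact laceFrom_get laceE6_7 (by omega) (by omega)
  exact laceFrom_get laceE6_8 (by omega) (by omega)

theorem laceE7_0 : laceFrom E7.fast hintsE7 0 8 = true := by decide +kernel
theorem laceE7_1 : laceFrom E7.fast hintsE7 8 8 = true := by decide +kernel
theorem laceE7_2 : laceFrom E7.fast hintsE7 16 8 = true := by decide +kernel
theorem laceE7_3 : laceFrom E7.fast hintsE7 24 8 = true := by decide +kernel
theorem laceE7_4 : laceFrom E7.fast hintsE7 32 8 = true := by decide +kernel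
theorem laceE7_5 : laceFrom E7.fast hintsE7 40 8 = true := by decide +kernel
theorem laceE7_6 : laceFrom E7.fast hintsE7 48 8 = true := by decide +kernel
theorem laceE7_7 : laceFrom E7.fast hintsE7 56 8 = true := by decide +kernel
theorem laceE7_8 : laceFrom E7.fast hintsE7 64 8 = true := by decide +kernel
theorem laceE7_9 : laceFrom E7.fast hintsE7 72 8 = true := by decide +kernel
theorem laceE7_10 : laceFrom E7.fast hintsE7 80 8 = true := by decide +kernel
theorem laceE7_11 : laceFrom E7.fast hintsE7 88 8 = true := by decide +kernel
theorem laceE7_12 : laceFrom E7.fast hintsE7 96 8 = true := by decide +kernel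
theorem laceE7_13 : laceFrom E7.fast hintsE7 104 8 = true := by decide +kernel
theorem laceE7_14 : laceFrom E7.fast hintsE7 112 8 = true := by decide +kernel
theorem laceE7_15 : laceFrom E7.fast hintsE7 120 6 = true := by decide +kernel

theorem lace_E7 : laceCheck E7.fast hintsE7 = true := by
  refine allBelow_iff.2 fun r hr => ?_
  replace hr : r < 126 := hr
  by_cases h0 : r < 8
  · exact laceFrom_get laceE7_0 (by omega) (by omega)
  by_cases h1 : r < 16
  · exact laceFrom_get laceE7_1 (by omega) (by omega)
  by_cases h2 : r < 24
  · exact laceFrom_get laceE7_2 (by omega) (by omega)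
  by_cases h3 : r < 32
  · exact laceFrom_get laceE7_3 (by omega) (by omega)
  by_cases h4 : r < 40
  · exact laceFrom_get laceE7_4 (by omega) (by omega)
  by_cases h5 : r < 48
  · exact laceFrom_get laceE7_5 (by omega) (by omega)
  by_cases h6 : r < 56
  · exact laceFrom_get laceE7_6 (by omega) (by omega)
  by_cases h7 : r < 64
  · exact laceFrom_get laceE7_7 (by omega) (by omega)
  by_cases h8 : r < 72
  · exact laceFrom_get laceE7_8 (by omega) (by omega)
  by_cases h9 : r < 80
  · exact laceFrom_get laceE7_9 (by omega) (by omega)
  by_cases h10 : r < 88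
  · exact laceFrom_get laceE7_10 (by omega) (by omega)
  by_cases h11 : r < 96
  · exact laceFrom_get laceE7_11 (by omega) (by omega)
  by_cases h12 : r < 104
  · exact laceFrom_get laceE7_12 (by omega) (by omega)
  by_cases h13 : r < 112
  · exact laceFrom_get laceE7_13 (by omega) (by omega)
  by_cases h14 : r < 120
  · exact laceFrom_get laceE7_14 (by omega) (by omega)
  exact laceFrom_get laceE7_15 (by omega) (by omega)

theorem laceE8_0 : laceFrom E8.fast hintsE8 0 8 = true := by decide +kernel
theorem laceE8_1 : laceFrom E8.fast hintsE8 8 8 = true := by decide +kernel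
theorem laceE8_2 : laceFrom E8.fast hintsE8 16 8 = true := by decide +kernel
theorem laceE8_3 : laceFrom E8.fast hintsE8 24 8 = true := by decide +kernel
theorem laceE8_4 : laceFrom E8.fast hintsE8 32 8 = true := by decide +kernel
theorem laceE8_5 : laceFrom E8.fast hintsE8 40 8 = true := by decide +kernel
theorem laceE8_6 : laceFrom E8.fast hintsE8 48 8 = true := by decide +kernel
theorem laceE8_7 : laceFrom E8.fast hintsE8 56 8 = true := by decide +kernel
theorem laceE8_8 : laceFrom E8.fast hintsE8 64 8 = true := by decide +kernel
theorem laceE8_9 : laceFrom E8.fast hintsE8 72 8 = true := by decide +kernel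
theorem laceE8_10 : laceFrom E8.fast hintsE8 80 8 = true := by decide +kernel
theorem laceE8_11 : laceFrom E8.fast hintsE8 88 8 = true := by decide +kernel
theorem laceE8_12 : laceFrom E8.fast hintsE8 96 8 = true := by decide +kernel
theorem laceE8_13 : laceFrom E8.fast hintsE8 104 8 = true := by decide +kernel
theorem laceE8_14 : laceFrom E8.fast hintsE8 112 8 = true := by decide +kernel
theorem laceE8_15 : laceFrom E8.fast hintsE8 120 8 = true := by decide +kernel
theorem laceE8_16 : laceFrom E8.fast hintsE8 128 8 = true := by decide +kernel
theorem laceE8_17 : laceFrom E8.fast hintsE8 136 8 = true := by decide +kernel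
theorem laceE8_18 : laceFrom E8.fast hintsE8 144 8 = true := by decide +kernel
theorem laceE8_19 : laceFrom E8.fast hintsE8 152 8 = true := by decide +kernel
theorem laceE8_20 : laceFrom E8.fast hintsE8 160 8 = true := by decide +kernel
theorem laceE8_21 : laceFrom E8.fast hintsE8 168 8 = true := by decide +kernel
theorem laceE8_22 : laceFrom E8.fast hintsE8 176 8 = true := by decide +kernel
theorem laceE8_23 : laceFrom E8.fast hintsE8 184 8 = true := by decide +kernel
theorem laceE8_24 : laceFrom E8.fast hintsE8 192 8 = true := by decide +kernel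
theorem laceE8_25 : laceFrom E8.fast hintsE8 200 8 = true := by decide +kernel
theorem laceE8_26 : laceFrom E8.fast hintsE8 208 8 = true := by decide +kernel
theorem laceE8_27 : laceFrom E8.fast hintsE8 216 8 = true := by decide +kernel
theorem laceE8_28 : laceFrom E8.fast hintsE8 224 8 = true := by decide +kernel
theorem laceE8_29 : laceFrom E8.fast hintsE8 232 8 = true := by decide +kernel

theorem lace_E8 : laceCheck E8.fast hintsE8 = true := by
  refine allBelow_iff.2 fun r hr => ?_
  replace hr : r < 240 := hr
  by_cases h0 : r < 8
  · exact laceFrom_get laceE8_0 (by omega) (by omega)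
  by_cases h1 : r < 16
  · exact laceFrom_get laceE8_1 (by omega) (by omega)
  by_cases h2 : r < 24
  · exact laceFrom_get laceE8_2 (by omega) (by omega)
  by_cases h3 : r < 32
  · exact laceFrom_get laceE8_3 (by omega) (by omega)
  by_cases h4 : r < 40
  · exact laceFrom_get laceE8_4 (by omega) (by omega)
  by_cases h5 : r < 48
  · exact laceFrom_get laceE8_5 (by omega) (by omega)
  by_cases h6 : r < 56
  · exact laceFrom_get laceE8_6 (by omega) (by omega)
  by_cases h7 : r < 64
  · exact laceFrom_get laceE8_7 (by omega) (by omega)
  by_cases h8 : r < 72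
  · exact laceFrom_get laceE8_8 (by omega) (by omega)
  by_cases h9 : r < 80
  · exact laceFrom_get laceE8_9 (by omega) (by omega)
  by_cases h10 : r < 88
  · exact laceFrom_get laceE8_10 (by omega) (by omega)
  by_cases h11 : r < 96
  · exact laceFrom_get laceE8_11 (by omega) (by omega)
  by_cases h12 : r < 104
  · exact laceFrom_get laceE8_12 (by omega) (by omega)
  by_cases h13 : r < 112
  · exact laceFrom_get laceE8_13 (by omega) (by omega)
  by_cases h14 : r < 120
  · exact laceFrom_get laceE8_14 (by omega) (by omega)
  by_cases h15 : r < 128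
  · exact laceFrom_get laceE8_15 (by omega) (by omega)
  by_cases h16 : r < 136
  · exact laceFrom_get laceE8_16 (by omega) (by omega)
  by_cases h17 : r < 144
  · exact laceFrom_get laceE8_17 (by omega) (by omega)
  by_cases h18 : r < 152
  · exact laceFrom_get laceE8_18 (by omega) (by omega)
  by_cases h19 : r < 160
  · exact laceFrom_get laceE8_19 (by omega) (by omega)
  by_cases h20 : r < 168
  · exact laceFrom_get laceE8_20 (by omega) (by omega)
  by_cases h21 : r < 176
  · exact laceFrom_get laceE8_21 (by omega) (by omega)
  by_cases h22 : r < 184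
  · exact laceFrom_get laceE8_22 (by omega) (by omega)
  by_cases h23 : r < 192
  · exact laceFrom_get laceE8_23 (by omega) (by omega)
  by_cases h24 : r < 200
  · exact laceFrom_get laceE8_24 (by omega) (by omega)
  by_cases h25 : r < 208
  · exact laceFrom_get laceE8_25 (by omega) (by omega)
  by_cases h26 : r < 216
  · exact laceFrom_get laceE8_26 (by omega) (by omega)
  by_cases h27 : r < 224
  · exact laceFrom_get laceE8_27 (by omega) (by omega)
  by_cases h28 : r < 232
  · exact laceFrom_get laceE8_28 (by omega) (by omega)
  exact laceFrom_get laceE8_29 (by omega) (by omega)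

end Cfsg.Agent.Lib.SimplyLacedLift
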